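import Mathlib

/-!
`R[x, y]` over `R[x², y²]` in characteristic two.
-/

noncomputable section

namespace Groth.Agent.CharTwoSquares

open MvPolynomial

universe u

variable {R : Type u} [CommRing R] [CharP R 2]

/-- the squaring substitution -/
abbrev sqr : MvPolynomial (Fin 2) R →ₐ[R] MvPolynomial (Fin 2) R := expand 2

theorem two_eq_zero' {σ : Type*} : (2 : MvPolynomial σ R) = 0 := CharTwo.two_eq_zero

theorem derivation_sq (D : Derivation R (MvPolynomial (Fin 2) R) (MvPolynomial (Fin 2) R))
    (f : MvPolynomial (Fin 2) R) : D (sqr f) = 0 := by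
  induction f using MvPolynomial.induction_on with
  | C a => simp
  | add a b ha hb => simp [ha, hb]
  | mul_X a i ha =>
    rw [map_mul, expand_X, Derivation.leibniz, ha, smul_zero, add_zero, pow_two, Derivation.leibniz,
      ← two_smul (MvPolynomial (Fin 2) R) (X i • D (X i)), two_eq_zero', zero_smul, smul_zero]

theorem exists_decomp (p : MvPolynomial (Fin 2) R) :
    ∃ a b c d, p = sqr a + sqr b * X 0 + sqr c * X 1 + sqr d * (X 0 * X 1) := by
  induction p using MvPolynomial.induction_on with
  | C r => exact ⟨C r, 0, 0, 0, by simp⟩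
  | add p q hp hq =>
    obtain ⟨a, b, c, d, rfl⟩ := hp
    obtain ⟨a', b', c', d', rfl⟩ := hq
    exact ⟨a + a', b + b', c + c', d + d', by simp only [map_add]; ring⟩
  | mul_X p i hp =>
    obtain ⟨a, b, c, d, rfl⟩ := hp
    fin_cases i
    · exact ⟨b * X 0, a, d * X 0, c, by simp only [map_mul, expand_X]; simp; ring⟩
    · exact ⟨c * X 1, d * X 1, a, b, by simp only [map_mul, expand_X]; simp; ring⟩

theorem decomp_eq_zero {a b c d : MvPolynomial (Fin 2) R}
    (h : sqr a + sqr b * X 0 + sqr c * X 1 + sqr d * (X 0 * X 1) = 0) : a = 0 ∧ b = 0 ∧ c = 0 ∧ d = 0 := by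
  have hinj := expand_injective (R := R) (σ := Fin 2) (n := 2) two_pos
  have hz : ∀ f, sqr f = 0 → f = 0 := fun f hf => hinj (by rw [hf, map_zero])
  have h0 := congrArg (pderiv (0 : Fin 2)) h
  simp only [map_add, map_zero, Derivation.leibniz, derivation_sq, pderiv_X_self, pderiv_X_of_ne (show (1 : Fin 2) ≠ 0 by decide),
    smul_eq_mul, mul_zero, mul_one, add_zero, zero_add] at h0
  have h01 := congrArg (pderiv (1 : Fin 2)) h0
  simp only [map_add, map_zero, Derivation.leibniz, derivation_sq, pderiv_X_self,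
    smul_eq_mul, mul_zero, mul_one, add_zero, zero_add] at h01
  have hd := hz _ h01
  subst hd
  simp only [map_zero, zero_mul, add_zero] at h h0
  have hb := hz _ h0
  subst hb
  simp only [map_zero, zero_mul, add_zero] at h
  have h1 := congrArg (pderiv (1 : Fin 2)) h
  simp only [map_add, map_zero, Derivation.leibniz, derivation_sq, pderiv_X_self,
    smul_eq_mul, mul_zero, mul_one, add_zero, zero_add] at h1
  have hc := hz _ h1
  subst hc
  simp only [map_zero, zero_mul, add_zero] at h
  exact ⟨hz _ h, rfl, rfl, rfl⟩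

theorem X_mul_eq_zero {i : Fin 2} {f : MvPolynomial (Fin 2) R} (h : X i * f = 0) : f = 0 :=
  isRegular_X.left.mul_left_eq_zero_iff.1 h

end Groth.Agent.CharTwoSquares
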